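import Groth.Agent.QCoh.FT
import Groth.Agent.QCoh.Sections
import Groth.Agent.QCoh.Tilde
import Groth.Agent.GrModX.BaseChangeTilde
import Groth.Agent.OmegaLib.IdealMod
import Groth.Agent.PPSheaf.GrCoh
import Groth.Prelude.Def_ClSub2

/-!
# Quasi-coherent submodules of the structure sheaf are ideal sheaves
-/

set_option autoImplicit false
set_option linter.style.haveILetI false
set_option linter.unusedSectionVars false
set_option backward.isDefEq.respectTransparency false
set_option backward.isDefEq.respectTransparency.types false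

universe u

open CategoryTheory CategoryTheory.Limits AlgebraicGeometry TopologicalSpace Opposite

noncomputable section

namespace Groth.Agent.SurfExtn

variable {X : Scheme.{u}} {N : X.Modules} (u : N ⟶ Coh.structureModule X)

/-- The values of `u` on sections, as functions. -/
def sect (W : X.Opens) (t : Γ(N, W)) : Γ(X, W) := u.app W t

theorem sect_smul (W : X.Opens) (r : Γ(X, W)) (t : Γ(N, W)) : sect u W (r • t) = r * sect u W t :=
  Scheme.Modules.Hom.app_smul u r t

theorem sect_res {W V : X.Opens} (h : V ≤ W) (t : Γ(N, W)) :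
    sect u V (N.presheaf.map (homOfLE h).op t) = X.presheaf.map (homOfLE h).op (sect u W t) :=
  ConcreteCategory.congr_hom (u.mapPresheaf.naturality (homOfLE h).op) t

/-- The ideal of values on an open. -/
def valIdeal (W : X.Opens) : Ideal Γ(X, W) where
  carrier := Set.range (sect u W)
  zero_mem' := ⟨0, map_zero (u.app W).hom⟩
  add_mem' := by
    rintro _ _ ⟨a, rfl⟩ ⟨b, rfl⟩
    exact ⟨a + b, map_add (u.app W).hom a b⟩
  smul_mem' := by
    rintro r _ ⟨a, rfl⟩
    exact ⟨r • a, sect_smul u W r a⟩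

theorem valIdeal_map (hN : Coh.IsQCoh N) {U : X.Opens} (hU : IsAffineOpen U) (f : Γ(X, U)) :
    (valIdeal u U).map (algebraMap Γ(X, U) Γ(X, X.basicOpen f)) = valIdeal u (X.basicOpen f) := by
  refine le_antisymm (Ideal.map_le_iff_le_comap.2 ?_) ?_
  · rintro _ ⟨t, rfl⟩
    exact ⟨N.presheaf.map (homOfLE (X.basicOpen_le f)).op t, sect_res u (X.basicOpen_le f) t⟩
  · rintro _ ⟨t, rfl⟩
    letI := QCoh.basicModule f N
    haveI := hU.isLocalization_basicOpen f
    haveI := QCoh.isLocalizedModule_basicRes f hN hU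
    obtain ⟨⟨x, s⟩, hxs⟩ := IsLocalizedModule.surj (Submonoid.powers f) (QCoh.basicRes f N) t
    have h1 : algebraMap Γ(X, U) Γ(X, X.basicOpen f) s.1 * sect u _ t =
        algebraMap Γ(X, U) Γ(X, X.basicOpen f) (sect u U x) := by
      rw [← sect_smul]
      refine Eq.trans ?_ (sect_res u (X.basicOpen_le f) x)
      exact congrArg (sect u (X.basicOpen f)) hxs
    obtain ⟨c, hc⟩ := IsLocalization.map_units Γ(X, X.basicOpen f) s
    have h2 : sect u _ t = (↑c⁻¹ : Γ(X, X.basicOpen f)) * algebraMap Γ(X, U) Γ(X, X.basicOpen f) (sect u U x) := by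
      rw [← h1, ← hc, ← mul_assoc, Units.inv_mul, one_mul]
    rw [h2]
    exact Ideal.mul_mem_left _ _ (Ideal.mem_map_of_mem _ ⟨x, rfl⟩)

/-- The ideal sheaf of values. -/
def valSheaf (hN : Coh.IsQCoh N) : X.IdealSheafData :=
  { ideal := fun U => valIdeal u U.1
    map_ideal_basicOpen := fun U f => valIdeal_map u hN U.2 f }

theorem comp_toSubscheme (hN : Coh.IsQCoh N) : u ≫ ClSub.toSubscheme (valSheaf u hN) = 0 := by
  ext W t
  refine TopCat.Presheaf.section_ext (⟨_, (ClSub.quotMod (valSheaf u hN)).isSheaf⟩ : TopCat.Sheaf Ab X) W _ _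
    fun x hx => ?_
  obtain ⟨U, hU, hxU, hUW⟩ := exists_isAffineOpen_mem_and_subset (show x ∈ W from hx)
  have h00 : (valSheaf u hN).subschemeι.app U (sect u U (N.presheaf.map (homOfLE hUW).op t)) = 0 :=
    RingHom.mem_ker.1 (((valSheaf u hN).ker_subschemeι_app ⟨U, hU⟩).ge
      (⟨_, rfl⟩ : sect u U (N.presheaf.map (homOfLE hUW).op t) ∈ valIdeal u U))
  have h0 : (ClSub.toSubscheme (valSheaf u hN)).app U (u.app U (N.presheaf.map (homOfLE hUW).op t)) = 0 := h00
  have h1 := ConcreteCategory.congr_hom ((u ≫ ClSub.toSubscheme (valSheaf u hN)).mapPresheaf.naturality (homOfLE hUW).op) t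
  have h2 : (ClSub.quotMod (valSheaf u hN)).presheaf.map (homOfLE hUW).op
      ((u ≫ ClSub.toSubscheme (valSheaf u hN)).app W t) = 0 := h1.symm.trans h0
  refine Eq.trans ((TopCat.Presheaf.germ_res_apply (ClSub.quotMod (valSheaf u hN)).presheaf (homOfLE hUW) x hxU _).symm.trans
    (congrArg _ h2)) ?_
  simp

/-- A quasi-coherent submodule of the structure sheaf is an ideal sheaf. -/
theorem exists_ideal [Mono u] (hN : Coh.IsQCoh N) :
    ∃ (I : X.IdealSheafData) (e : N ≅ ClSub.idealMod I), e.hom ≫ ClSub.idealModι I = u := by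
  let v : N ⟶ ClSub.idealMod (valSheaf u hN) := kernel.lift _ u (comp_toSubscheme u hN)
  have hv : v ≫ ClSub.idealModι (valSheaf u hN) = u := kernel.lift_ι _ _ _
  haveI : IsIso v := QCoh.isIso_of_affine_cover v hN (PPSheaf.GrCoh.isQCoh_idealMod _) fun x => by
    obtain ⟨U, hU, hxU, -⟩ := exists_isAffineOpen_mem_and_subset (show x ∈ (⊤ : X.Opens) from trivial)
    have key : ∀ t, OmegaSh.idealSect (valSheaf u hN) U (v.app U t) = sect u U t := fun t =>
      congr(($hv).app U t)
    refine ⟨U, hxU, hU, fun a b hab => QCoh.app_injective u U ?_, fun b => ?_⟩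
    · show sect u U a = sect u U b
      rw [← key, ← key, hab]
    · obtain ⟨t, ht⟩ : OmegaSh.idealSect (valSheaf u hN) U b ∈ valIdeal u U :=
        OmegaLib.idealSect_mem (valSheaf u hN) ⟨U, hU⟩ b
      exact ⟨t, OmegaLib.idealSect_injective _ U ((key t).trans ht)⟩
  exact ⟨_, asIso v, hv⟩

end Groth.Agent.SurfExtn
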