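import Groth.Agent.SurfExtn.IdealOfMono
import Groth.Agent.S1689
import Groth.Agent.S1691
import Groth.Agent.Big.Split
import Groth.Agent.Big.Cartier
import Groth.Agent.H23.PullPush
import Groth.Agent.KZ.LFRes
import Groth.Agent.KRRReg.PushOne
import Groth.Agent.ConsPropLib.FibreLocFree
import Groth.Agent.RamSam.RegParam
import Groth.Agent.GrpSchLib.SmoothRegular
import Groth.Agent.GrpSchLib.SmoothReduced
import Groth.Agent.SmoothReg.Scheme
import Groth.Agent.CurveCohLib.Skyscraper

/-!
# Extensions of an ideal of points by an invertible sheaf on a smooth surface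
-/

set_option autoImplicit false
set_option linter.style.haveILetI false
set_option linter.unusedSectionVars false
set_option backward.isDefEq.respectTransparency false
set_option backward.isDefEq.respectTransparency.types false
set_option maxHeartbeats 1000000

universe u

open CategoryTheory CategoryTheory.Limits AlgebraicGeometry TopologicalSpace Opposite

noncomputable section

namespace Groth.Agent.SurfExtn

variable {X : Scheme.{u}}

/-- The complement of the support. -/
def compl (I : X.IdealSheafData) : X.Opens := ⟨(I.support : Set X)ᶜ, I.support.isClosed.isOpen_compl⟩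

theorem isIso_restrict_ι (U : X.Opens) (I : X.IdealSheafData) (h : Disjoint (U : Set X) (I.support : Set X)) :
    IsIso ((Scheme.Modules.restrictFunctor U.ι).map (ClSub.idealModι I)) :=
  Ref1X.isIso_restrict_of_stalk (U := U) _ fun x hx =>
    (ConcreteCategory.isIso_iff_bijective _).1 (Big.isoOn_idealModι I h x hx)

theorem ideal_le_of_fac {I J : X.IdealSheafData} (φ : ClSub.idealMod I ⟶ ClSub.idealMod J)
    (hφ : φ ≫ ClSub.idealModι J = ClSub.idealModι I) : I ≤ J := fun U x hx => by
  obtain ⟨k, rfl⟩ := OmegaLib.exists_of_mem I U x hx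
  have h : OmegaSh.idealSect J U.1 (φ.app U.1 k) = OmegaSh.idealSect I U.1 k := congr(($hφ).app U.1 k)
  rw [← h]
  exact OmegaLib.idealSect_mem J U _

variable [IsIntegral X] [IsLocallyNoetherian X]
  (hreg : ∀ x : X, IsRegularLocalRing (X.presheaf.stalk x)) (hdim : topologicalKrullDim X ≤ 2)
  {U : X.Opens} (hU : ∀ x : X, x ∉ U → (2 : ℕ∞) ≤ LocCoh.depth (X.presheaf.stalk x) (X.presheaf.stalk x))

include hreg hdim hU

theorem isIso_unit (E : X.Modules) (hE : FlatMod.IsFinLocFree E) :
    IsIso ((Scheme.Modules.restrictAdjunction U.ι).unit.app E) :=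
  (S1691.result X U hU).1 E (CurveDeg.isCoh_of_isFinLocFree hE)
    ((S1689.result X hreg hdim E (CurveDeg.isCoh_of_isFinLocFree hE)).2 hE)

theorem isFinLocFree_push (E : (U : Scheme.{u}).Modules) (hE : FlatMod.IsFinLocFree E) :
    FlatMod.IsFinLocFree ((Scheme.Modules.pushforward U.ι).obj E) := by
  have hcoh : Coh.IsCoh E := CurveDeg.isCoh_of_isFinLocFree hE
  have hUdim : topologicalKrullDim (U : Scheme.{u}) ≤ 2 :=
    (U.ι.isOpenEmbedding.isInducing.topologicalKrullDim_le).trans hdim
  have hUreg : ∀ x : (U : Scheme.{u}), IsRegularLocalRing ((U : Scheme.{u}).presheaf.stalk x) := fun x => by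
    haveI := hreg x.1
    exact IsRegularLocalRing.of_ringEquiv (U.stalkIso x).symm.commRingCatIsoToRingEquiv
  obtain ⟨h1, h2⟩ := (S1691.result X U hU).2 E hcoh ((S1689.result (U : Scheme.{u}) hUreg hUdim E hcoh).2 hE)
  exact (S1689.result X hreg hdim _ h1).1 h2

variable (IZ : X.IdealSheafData) (hdis : Disjoint (U : Set X) (IZ.support : Set X))
  {M F : X.Modules} (hM : FlatMod.IsFinLocFree M) (a : M ⟶ F) (b : F ⟶ ClSub.idealMod IZ) (w : a ≫ b = 0)
  (hex : (ShortComplex.mk a b w).ShortExact)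

include hdis hM hex

theorem isFinLocFree_restrict : FlatMod.IsFinLocFree ((Scheme.Modules.restrictFunctor U.ι).obj F) := by
  haveI := isIso_restrict_ι U IZ hdis
  have h3 : FlatMod.IsFinLocFree ((Scheme.Modules.restrictFunctor U.ι).obj (ClSub.idealMod IZ)) :=
    H23.PullPush.isFinLocFree_of_iso
      (asIso ((Scheme.Modules.restrictFunctor U.ι).map (ClSub.idealModι IZ))).symm
      (ConsPropLib.isFinLocFree_restrict U.ι (KRRReg.isFinLocFree_structure X))
  have hS := hex.map_of_exact (Scheme.Modules.restrictFunctor U.ι)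
  exact KZ.LFRes.pdlt_one_iff.1 (KZ.LFRes.PDLT.ext hS
    (KZ.LFRes.pdlt_one_iff.2 (ConsPropLib.isFinLocFree_restrict U.ι hM)) (KZ.LFRes.pdlt_one_iff.2 h3))

/-- If the middle term is not locally free the extension is induced from a larger ideal. -/
theorem exists_larger (hF : ¬ FlatMod.IsFinLocFree F) :
    ∃ (I' : X.IdealSheafData) (F' : X.Modules) (a' : M ⟶ F') (b' : F' ⟶ ClSub.idealMod I') (w' : a' ≫ b' = 0)
        (φ : ClSub.idealMod IZ ⟶ ClSub.idealMod I') (g : F ⟶ F'),
        IZ < I' ∧ (ShortComplex.mk a' b' w').ShortExact ∧ φ ≫ ClSub.idealModι I' = ClSub.idealModι IZ ∧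
          a ≫ g = a' ∧ g ≫ b' = b ≫ φ := by
  let η := (Scheme.Modules.restrictAdjunction U.ι).unit
  let R := Scheme.Modules.restrictFunctor U.ι
  let P := Scheme.Modules.pushforward U.ι
  let O := Coh.structureModule X
  have hF' : FlatMod.IsFinLocFree (P.obj (R.obj F)) :=
    isFinLocFree_push hreg hdim hU _ (isFinLocFree_restrict hreg hdim hU IZ hdis hM a b w hex)
  haveI : IsIso (η.app M) := isIso_unit hreg hdim hU M hM
  haveI : IsIso (η.app O) := isIso_unit hreg hdim hU O (KRRReg.isFinLocFree_structure X)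
  haveI : Mono a := hex.mono_f
  haveI : Epi b := hex.epi_g
  haveI : Mono (ClSub.idealModι IZ) := inferInstanceAs (Mono (kernel.ι _))
  -- the sequence with values in the structure sheaf
  let S₁ := ShortComplex.mk a (b ≫ ClSub.idealModι IZ) (by rw [reassoc_of% w, zero_comp])
  have hS₁ : S₁.Exact := by
    let τ : ShortComplex.mk a b w ⟶ S₁ :=
      { τ₁ := 𝟙 _, τ₂ := 𝟙 _, τ₃ := ClSub.idealModι IZ }
    haveI : Epi τ.τ₁ := inferInstanceAs (Epi (𝟙 _))
    haveI : IsIso τ.τ₂ := inferInstanceAs (IsIso (𝟙 _))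
    haveI : Mono τ.τ₃ := inferInstanceAs (Mono (ClSub.idealModι IZ))
    exact (ShortComplex.exact_iff_of_epi_of_isIso_of_mono τ).1 hex.exact
  haveI : Mono (R.map a) := R.map_mono a
  let u' : P.obj (R.obj F) ⟶ O := P.map (R.map (b ≫ ClSub.idealModι IZ)) ≫ inv (η.app O)
  have hu : η.app F ≫ u' = b ≫ ClSub.idealModι IZ := by
    rw [← cancel_mono (η.app O)]
    simp only [u', Category.assoc, IsIso.inv_hom_id, Category.comp_id]
    exact ((η.naturality (b ≫ ClSub.idealModι IZ)).trans (by rfl)).symm.trans (Category.assoc _ _ _)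
  have wa : (a ≫ η.app F) ≫ u' = 0 := by rw [Category.assoc, hu, reassoc_of% w, zero_comp]
  have hna : η.app M ≫ P.map (R.map a) = a ≫ η.app F := (η.naturality a).symm
  have hS₂ : (ShortComplex.mk (a ≫ η.app F) u' wa).Exact := by
    haveI : Mono (S₁.map R).f := inferInstanceAs (Mono (R.map a))
    have h1 : ((S₁.map R).map P).Exact := (hS₁.map R).map_of_mono_of_preservesKernel P inferInstance inferInstance
    refine ShortComplex.exact_of_iso (S₂ := ShortComplex.mk (a ≫ η.app F) u' wa) (S₁ := (S₁.map R).map P)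
      (ShortComplex.isoMk (asIso (η.app M)).symm (Iso.refl _) (asIso (η.app O)).symm ?_ ?_) h1
    · show inv (η.app M) ≫ (a ≫ η.app F) = P.map (R.map a) ≫ 𝟙 _
      rw [Category.comp_id, IsIso.inv_comp_eq, hna]
    · show 𝟙 _ ≫ u' = P.map (R.map (b ≫ ClSub.idealModι IZ)) ≫ inv (η.app O)
      rw [Category.id_comp]
  haveI : Mono (a ≫ η.app F) := by
    rw [← hna]
    infer_instance
  -- the image
  have hqF' : Coh.IsQCoh (P.obj (R.obj F)) := QCoh.isQCoh_of_isFinLocFree hF'
  have hqO : Coh.IsQCoh O := PnCoh.isQCoh_structureModule X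
  obtain ⟨I', e', he'⟩ := exists_ideal (Abelian.image.ι u')
    (QCoh.isQCoh_kernel hqO (QCoh.isQCoh_cokernel hqF' hqO u') (cokernel.π u'))
  let b' : P.obj (R.obj F) ⟶ ClSub.idealMod I' := Abelian.factorThruImage u' ≫ e'.hom
  have hb' : b' ≫ ClSub.idealModι I' = u' := by
    rw [Category.assoc, he']
    exact Abelian.image.fac u'
  haveI : Mono (ClSub.idealModι I') := inferInstanceAs (Mono (kernel.ι _))
  have w' : (a ≫ η.app F) ≫ b' = 0 := by
    rw [← cancel_mono (ClSub.idealModι I'), Category.assoc, hb', wa, zero_comp]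
  have hS' : (ShortComplex.mk (a ≫ η.app F) b' w').ShortExact := by
    haveI : Epi b' := inferInstanceAs (Epi (Abelian.factorThruImage u' ≫ e'.hom))
    refine ShortComplex.ShortExact.mk' ?_ inferInstance inferInstance
    let τ : ShortComplex.mk (a ≫ η.app F) b' w' ⟶ ShortComplex.mk (a ≫ η.app F) u' wa :=
      { τ₁ := 𝟙 _, τ₂ := 𝟙 _, τ₃ := ClSub.idealModι I', comm₂₃ := by simpa using hb'.symm }
    haveI : Epi τ.τ₁ := inferInstanceAs (Epi (𝟙 _))
    haveI : IsIso τ.τ₂ := inferInstanceAs (IsIso (𝟙 _))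
    haveI : Mono τ.τ₃ := inferInstanceAs (Mono (ClSub.idealModι I'))
    exact (ShortComplex.exact_iff_of_epi_of_isIso_of_mono τ).2 hS₂
  have hz : ClSub.idealModι IZ ≫ ClSub.toSubscheme I' = 0 := by
    rw [← cancel_epi b, comp_zero, ← Category.assoc, ← hu, Category.assoc, ← hb', Category.assoc,
      show ClSub.idealModι I' ≫ ClSub.toSubscheme I' = 0 from kernel.condition _, comp_zero, comp_zero]
  let φ : ClSub.idealMod IZ ⟶ ClSub.idealMod I' := kernel.lift _ (ClSub.idealModι IZ) hz
  have hφ : φ ≫ ClSub.idealModι I' = ClSub.idealModι IZ := kernel.lift_ι _ _ _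
  have hg : η.app F ≫ b' = b ≫ φ := by
    rw [← cancel_mono (ClSub.idealModι I'), Category.assoc, hb', hu, Category.assoc, hφ]
  refine ⟨I', _, _, b', w', φ, η.app F, lt_of_le_of_ne (ideal_le_of_fac φ hφ) ?_, hS', hφ, rfl, hg⟩
  rintro rfl
  have hid : φ = 𝟙 _ := by rw [← cancel_mono (ClSub.idealModι IZ), hφ, Category.id_comp]
  rw [hid] at hg
  refine hF (H23.PullPush.isFinLocFree_of_iso (M := P.obj (R.obj F)) ?_ hF')
  let τ : ShortComplex.mk a b w ⟶ ShortComplex.mk (a ≫ η.app F) b' w' :=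
    { τ₁ := 𝟙 _, τ₂ := η.app F, τ₃ := 𝟙 _, comm₂₃ := hg }
  haveI : IsIso τ.τ₁ := inferInstanceAs (IsIso (𝟙 _))
  haveI : IsIso τ.τ₃ := inferInstanceAs (IsIso (𝟙 _))
  haveI : IsIso (η.app F) := ShortComplex.isIso₂_of_shortExact_of_isIso₁₃ τ hex hS'
  exact (asIso (η.app F)).symm

/-- If the extension is induced from a larger ideal the middle term is not locally free. -/
theorem not_finLocFree {I' : X.IdealSheafData} {F' : X.Modules} {a' : M ⟶ F'} {b' : F' ⟶ ClSub.idealMod I'}
    {w' : a' ≫ b' = 0} {φ : ClSub.idealMod IZ ⟶ ClSub.idealMod I'} {g : F ⟶ F'}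
    (hlt : IZ < I') (hS' : (ShortComplex.mk a' b' w').ShortExact)
    (hφ : φ ≫ ClSub.idealModι I' = ClSub.idealModι IZ) (ha : a ≫ g = a') (hb : g ≫ b' = b ≫ φ) :
    ¬ FlatMod.IsFinLocFree F := fun hF => by
  let η := (Scheme.Modules.restrictAdjunction U.ι).unit
  let R := Scheme.Modules.restrictFunctor U.ι
  let P := Scheme.Modules.pushforward U.ι
  haveI : IsIso (η.app M) := isIso_unit hreg hdim hU M hM
  haveI : IsIso (η.app F) := isIso_unit hreg hdim hU F hF
  haveI : IsIso (η.app (Coh.structureModule X)) := isIso_unit hreg hdim hU _ (KRRReg.isFinLocFree_structure X)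
  haveI : IsIso (R.map (ClSub.idealModι IZ)) := isIso_restrict_ι U IZ hdis
  haveI : IsIso (R.map (ClSub.idealModι I')) :=
    isIso_restrict_ι U I' (hdis.mono_right (Scheme.IdealSheafData.support_antitone hlt.le))
  haveI : IsIso (R.map φ) := by
    have h := R.map_comp φ (ClSub.idealModι I')
    rw [hφ] at h
    exact IsIso.of_isIso_fac_right h.symm
  let τ : (ShortComplex.mk a b w).map R ⟶ (ShortComplex.mk a' b' w').map R :=
    R.mapShortComplex.map { τ₁ := 𝟙 _, τ₂ := g, τ₃ := φ, comm₁₂ := by simpa using ha.symm, comm₂₃ := hb }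
  haveI : IsIso τ.τ₁ := inferInstanceAs (IsIso (R.map (𝟙 _)))
  haveI : IsIso τ.τ₃ := inferInstanceAs (IsIso (R.map φ))
  haveI : IsIso (R.map g) := ShortComplex.isIso₂_of_shortExact_of_isIso₁₃ τ (hex.map_of_exact R) (hS'.map_of_exact R)
  haveI : Mono a' := hS'.mono_f
  haveI : Mono (ClSub.idealModι I') := inferInstanceAs (Mono (kernel.ι _))
  haveI : Mono (η.app (ClSub.idealMod I')) := by
    haveI : Mono (η.app (ClSub.idealMod I') ≫ P.map (R.map (ClSub.idealModι I'))) := by
      have h : ClSub.idealModι I' ≫ η.app (Coh.structureModule X) =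
          η.app (ClSub.idealMod I') ≫ P.map (R.map (ClSub.idealModι I')) := η.naturality _
      rw [← h]
      infer_instance
    exact mono_of_mono _ (P.map (R.map (ClSub.idealModι I')))
  haveI : Mono (P.map (R.map a')) := inferInstance
  haveI : Mono (η.app F') := Preadditive.mono_of_cancel_zero _ fun {T} t ht => by
    have hn : b' ≫ η.app (ClSub.idealMod I') = η.app F' ≫ P.map (R.map b') := η.naturality b'
    have h1 : t ≫ b' = 0 := by
      rw [← cancel_mono (η.app (ClSub.idealMod I')), zero_comp, Category.assoc, hn, reassoc_of% ht, zero_comp]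
    obtain ⟨s, rfl⟩ : ∃ s, s ≫ a' = t := ⟨hS'.exact.lift t h1, hS'.exact.lift_f t h1⟩
    have hn' : a' ≫ η.app F' = η.app M ≫ P.map (R.map a') := η.naturality a'
    rw [Category.assoc, hn', ← Category.assoc] at ht
    have h2 : s ≫ η.app M = 0 := by rw [← cancel_mono (P.map (R.map a')), ht, zero_comp]
    have h3 : s = 0 := by rw [← cancel_mono (η.app M), h2, zero_comp]
    rw [h3, zero_comp]
  let h : F' ⟶ F := η.app F' ≫ inv (P.map (R.map g)) ≫ inv (η.app F)
  have hgh : g ≫ h = 𝟙 _ := by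
    have hn : g ≫ η.app F' = η.app F ≫ P.map (R.map g) := η.naturality g
    rw [reassoc_of% hn, IsIso.hom_inv_id_assoc, IsIso.hom_inv_id]
  haveI : Mono h := inferInstance
  have hhg : h ≫ g = 𝟙 _ := by rw [← cancel_mono h, Category.assoc, hgh, Category.comp_id, Category.id_comp]
  haveI : IsIso g := ⟨h, hgh, hhg⟩
  haveI : Epi b' := hS'.epi_g
  haveI : Epi (b ≫ φ) := hb ▸ epi_comp g b'
  haveI : Epi φ := epi_of_epi b φ
  haveI : Mono (ClSub.idealModι IZ) := inferInstanceAs (Mono (kernel.ι _))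
  haveI : Mono φ := by
    haveI : Mono (φ ≫ ClSub.idealModι I') := hφ ▸ inferInstance
    exact mono_of_mono φ (ClSub.idealModι I')
  haveI : IsIso φ := isIso_of_mono_of_epi φ
  exact hlt.not_ge (ideal_le_of_fac (inv φ) (by rw [IsIso.inv_comp_eq, hφ]))

end Groth.Agent.SurfExtn
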